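import Cfsg.Agent.Lib.CosetEnum.Signed.Defs

/-!
# Case trees of small enumeration certificates for element orders at most six

Letters come in `k` pairs of inverse elements. A tree derives one of several target lists of trivial
words, by case splits on orders and by the few local facts recorded in the node types.
-/

set_option autoImplicit false

namespace Cfsg.Lib.Recog.OrderSix.Trees

open Cfsg.Lib.CosetEnum (Tab beqW defsOK)
open Cfsg.Lib.CosetEnum.Signed (opp walkS stepsOKS labsOK)

/-- An enumeration certificate. -/
structure Cert where
  /-- Facts. -/
  F : Tab
  /-- Steps. -/
  C : Tab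
  /-- Number of node definitions. -/
  d : Nat
  /-- Number of steps. -/
  e : Nat
  /-- The trivial words, with the facts showing it. -/
  goals : List (List Nat × List Nat)

/-- The empty word and the pairs of opposite letters. -/
def extras (k : Nat) : List (List Nat) :=
  [] :: (List.range k).map (fun g => [g, g + k]) ++ (List.range k).map fun g => [g + k, g]

/-- Are all letters proper? -/
def lettersOK (k : Nat) (ws : List (List Nat)) : Bool :=
  ws.all fun w => w.all fun g => Nat.blt g (k + k)

/-- A walk of facts returns to the base point and reads the word. -/
noncomputable def goalOK (k : Nat) (F : Tab) (bound : Nat) (g : List Nat × List Nat) : Bool :=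
  match walkS k F bound g.2 0 with
  | some (e, w) => Nat.beq e 0 && beqW w g.1
  | none => false

/-- Does a list of words contain a word? -/
def hasW (l : List (List Nat)) (w : List Nat) : Bool := l.any fun v => beqW v w

/-- The checks on a certificate showing that the words `T` are trivial under the relations `R`. -/
noncomputable def Cert.ok (c : Cert) (k : Nat) (R T : List (List Nat)) : Bool :=
  lettersOK k R && defsOK c.F c.d 0 && labsOK k c.F c.d 0 &&
    stepsOKS k (R ++ extras k) [] c.F c.C c.d c.e 0 &&
    (c.goals.all fun g => goalOK k c.F (c.d + c.e) g) &&
    T.all fun w => hasW (c.goals.map Prod.fst) w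

/-- The inverse word. -/
noncomputable def invW (k : Nat) (w : List Nat) : List Nat := (w.map (opp k)).reverse

/-- A power of a word. -/
def powW (n : Nat) (w : List Nat) : List Nat := (List.replicate n w).flatten

/-- The commutation word of two words. -/
noncomputable def comW (k : Nat) (u v : List Nat) : List Nat := u ++ v ++ invW k u ++ invW k v

/-- Substitute words for letters. -/
def substW (ws : List (List Nat)) (w : List Nat) : List Nat := (w.map fun g => ws.getD g []).flatten

/-- The setting: number of letter pairs, pure involutions, a centralised involution and element of
order three, words of order three, and the targets. -/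
structure Spec where
  /-- The number of letter pairs. -/
  k : Nat
  /-- Letters of involutions which invert no element of order three. -/
  pure : List Nat
  /-- An involution commuting with all involutions centralising the element of the next field. -/
  zy : Option (Nat × Nat)
  /-- Words of elements of order three. -/
  three : List (List Nat)
  /-- The target lists of trivial words. -/
  targets : List (List (List Nat))

/-- A case tree. -/
inductive Tree
  /-- A target holds. -/
  | goal (c : Cert) (i : Nat)
  /-- Split on the order of a word. -/
  | split (w : List Nat) (t1 t2 t3 t4 t5 t6 : Tree)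
  /-- Split on the order of the product of a conjugate of a pure involution and an involution. -/
  | pair (m : List Nat) (g : Nat) (q : List Nat) (c : Cert) (t4 t5 : Tree)
  /-- Enumerate in a subgroup given by words for its letters. -/
  | sub (k' : Nat) (im : List (List Nat)) (R' T' : List (List Nat)) (c c' : Cert) (t : Tree)
  /-- Add derived relations. -/
  | derive (ws : List (List Nat)) (c : Cert) (t : Tree)
  /-- An involution in the centraliser commutes with the given one. -/
  | invol (h : List Nat) (c : Cert) (t : Tree)
  /-- So does a conjugate of the given one by an element of the centraliser. -/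
  | conj (h : List Nat) (c : Cert) (t : Tree)
  /-- No four-group is moved in the centraliser of an element of order three. -/
  | four (u v e : List Nat) (c : Cert) (t : Tree)

/-- The checks on a tree. -/
noncomputable def Tree.ok (P : Spec) : Tree → List (List Nat) → Bool
  | .goal c i, R => Nat.blt i P.targets.length && c.ok P.k R (P.targets.getD i [])
  | .split w t1 t2 t3 t4 t5 t6, R => lettersOK P.k [w] &&
      t1.ok P (R ++ [powW 1 w]) && t2.ok P (R ++ [powW 2 w]) && t3.ok P (R ++ [powW 3 w]) &&
      t4.ok P (R ++ [powW 4 w]) && t5.ok P (R ++ [powW 5 w]) && t6.ok P (R ++ [powW 6 w])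
  | .sub k' im R' T' c c' t, R => Nat.ble (k' + k') Cfsg.Lib.CosetEnum.eps &&
      Nat.beq im.length (k' + k') && lettersOK P.k im && lettersOK k' T' &&
      c.ok P.k R (R'.map (substW im) ++ (List.range k').map fun g => substW im [g, g + k']) &&
      c'.ok k' R' T' && t.ok P (R ++ T'.map (substW im))
  | .derive ws c t, R => c.ok P.k R ws && t.ok P (R ++ ws)
  | .pair m g q c t4 t5, R => lettersOK P.k [m, [g], q] && (P.pure.any fun a => Nat.beq a g) &&
      c.ok P.k R [powW 2 q] &&
      t4.ok P (R ++ [powW 4 (m ++ g :: invW P.k m ++ q)]) &&
      t5.ok P (R ++ [powW 5 (m ++ g :: invW P.k m ++ q)])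
  | .invol h c t, R => match P.zy with
      | some (z, y) => lettersOK P.k [h, [z], [y]] && c.ok P.k R [powW 2 h, comW P.k h [y]] &&
          t.ok P (R ++ [powW 2 (z :: h)])
      | none => false
  | .conj h c t, R => match P.zy with
      | some (z, y) => lettersOK P.k [h, [z], [y]] && c.ok P.k R [comW P.k h [y]] &&
          t.ok P (R ++ [powW 2 (z :: (h ++ z :: invW P.k h))])
      | none => false
  | .four u v e c t, R => lettersOK P.k [u, v, e] && hasW P.three u && hasW P.three v &&
      c.ok P.k R [comW P.k u v, comW P.k u e, powW 2 e,
        powW 2 (e ++ (v ++ e ++ invW P.k v))] &&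
      t.ok P (R ++ [comW P.k e v])

end Cfsg.Lib.Recog.OrderSix.Trees
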