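import Mathlib
import Cfsg.Agent.Lib.CosetEnum.Signed.Sound
import Cfsg.Agent.Lib.Recog.OrderSix.Trees.Defs

/-!
# Soundness of the case trees for element orders at most six
-/

set_option autoImplicit false

namespace Cfsg.Lib.Recog.OrderSix.Trees

open Cfsg.Lib.CosetEnum (Tab eps gen act beqW beqW_eq)
open Cfsg.Lib.CosetEnum.Signed (Paired HoldsS Lab opp gen_opp walkS_sound stepsOKS_sound labsOK_get val
  act_eq_val)

variable {G : Type*} [Group G] {k : ℕ} {x : ℕ → G}

/-- The product of a word. -/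
def prodW (x : ℕ → G) (w : List ℕ) : G := (w.map (gen x)).prod

@[simp] theorem prodW_nil (x : ℕ → G) : prodW x [] = 1 := rfl

theorem prodW_cons (x : ℕ → G) (g : ℕ) (w : List ℕ) :
    prodW x (g :: w) = gen x g * prodW x w := by simp [prodW]

theorem prodW_singleton (x : ℕ → G) (g : ℕ) : prodW x [g] = gen x g := by simp [prodW]

theorem prodW_append (x : ℕ → G) (v w : List ℕ) :
    prodW x (v ++ w) = prodW x v * prodW x w := by simp [prodW]

theorem prodW_powW (x : ℕ → G) (n : ℕ) (w : List ℕ) : prodW x (powW n w) = prodW x w ^ n := by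
  induction n with
  | zero => simp [powW]
  | succ n ih =>
    rw [pow_succ', ← ih, ← prodW_append]
    simp [powW, List.replicate_succ]

theorem lettersOK_iff {ws : List (List ℕ)} (h : lettersOK k ws = true) :
    ∀ w ∈ ws, ∀ g ∈ w, g < k + k := fun w hw g hg => by
  simp only [lettersOK, List.all_eq_true, Nat.blt_eq] at h
  exact h w hw g hg

theorem prodW_invW (hx : Paired k x) (hk : k + k ≤ eps) :
    ∀ {w : List ℕ}, (∀ g ∈ w, g < k + k) → prodW x (invW k w) = (prodW x w)⁻¹
  | [], _ => by simp [invW]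
  | g :: w, h => by
    have ih := prodW_invW hx hk (w := w) fun a ha => h a (by simp [ha])
    rw [invW] at ih ⊢
    rw [List.map_cons, List.reverse_cons, prodW_append, ih, prodW_singleton,
      gen_opp hx hk (Or.inl (h g (by simp))), prodW_cons, mul_inv_rev]

theorem val_inv (x : ℕ → G) : ∀ w : List ℕ, val (fun g => (x g)⁻¹) w = (prodW x w)⁻¹
  | [] => by simp [val]
  | g :: w => by
    rw [val, val_inv x w, prodW_cons, mul_inv_rev]
    congr 1
    unfold gen
    split <;> simp

theorem paired_inv (hx : Paired k x) : Paired k fun g => (x g)⁻¹ := fun g hg => by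
  have h := hx g hg
  have h' : x (g + k) = (x g)⁻¹ := eq_inv_of_mul_eq_one_right h
  simp [h']

theorem hasW_iff {l : List (List ℕ)} {w : List ℕ} (h : hasW l w = true) : w ∈ l := by
  simp only [hasW, List.any_eq_true] at h
  obtain ⟨v, hv, e⟩ := h
  exact beqW_eq e ▸ hv

theorem extras_trivial (hx : Paired k x) (hk : k + k ≤ eps) :
    ∀ r ∈ extras k, prodW x r = 1 ∧ ∀ g ∈ r, g < k + k := by
  intro r hr
  simp only [extras, List.mem_append, List.mem_cons, List.mem_map, List.mem_range] at hr
  have h2 : ∀ g < k, gen x g = x g ∧ gen x (g + k) = x (g + k) := fun g hg =>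
    ⟨if_neg (by omega), if_neg (by omega)⟩
  rcases hr with (rfl | ⟨g, hg, rfl⟩) | ⟨g, hg, rfl⟩
  · simp
  · refine ⟨?_, fun a ha => ?_⟩
    · rw [prodW_cons, prodW_singleton, (h2 g hg).1, (h2 g hg).2]
      exact hx g hg
    · simp at ha; omega
  · refine ⟨?_, fun a ha => ?_⟩
    · rw [prodW_cons, prodW_singleton, (h2 g hg).1, (h2 g hg).2]
      exact mul_eq_one_comm.1 (hx g hg)
    · simp at ha; omega

/-- The target words of a checked certificate are trivial. -/
theorem Cert.eq_one {c : Cert} {R T : List (List ℕ)} (hc : c.ok k R T = true)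
    (hx : Paired k x) (hk : k + k ≤ eps) (hR : ∀ r ∈ R, prodW x r = 1) :
    ∀ w ∈ T, prodW x w = 1 := by
  simp only [Cert.ok, Bool.and_eq_true, List.all_eq_true] at hc
  obtain ⟨⟨⟨⟨⟨hl, h1⟩, hlab⟩, h2⟩, h3⟩, hT⟩ := hc
  set x' : ℕ → G := fun g => (x g)⁻¹ with hx'
  obtain ⟨φ, h0, hφ⟩ := Cfsg.Lib.CosetEnum.exists_labelling x' (1 : G) (F := c.F) (d := c.d)
    fun i hi => Cfsg.Lib.CosetEnum.defsOK_get h1 i (Nat.zero_le _) (by omega)
  have hφ' : HoldsS k x' c.F φ (c.d + 0) := fun r hr =>
    ⟨Or.inl (labsOK_get hlab r (Nat.zero_le _) (by omega)), hφ r (by omega)⟩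
  have hRR : ∀ r ∈ R ++ extras k, prodW x r = 1 ∧ ∀ g ∈ r, g < k + k := fun r hr => by
    rcases List.mem_append.1 hr with hr | hr
    · exact ⟨hR r hr, lettersOK_iff hl r hr⟩
    · exact extras_trivial hx hk r hr
  have hR' : ∀ r ∈ R ++ extras k, ∀ q : G, act x' r q = q := fun r hr q => by
    rw [act_eq_val, val_inv, (hRR r hr).1, inv_one, one_smul]
  have hF := stepsOKS_sound (paired_inv hx) hk hR'
    (fun r hr g hg => Or.inl ((hRR r (by simpa using hr)).2 g hg)) (φ := φ)
    (U := []) (by simp) h2 hφ'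
  intro w hw
  obtain ⟨g, hg, hgw⟩ := List.mem_map.1 (hasW_iff (hT w hw))
  have h4 := h3 g hg
  unfold goalOK at h4
  split at h4
  · next e w' heq =>
    simp only [Bool.and_eq_true, Nat.beq_eq] at h4
    obtain ⟨rfl, h5⟩ := h4
    obtain ⟨-, h6⟩ := walkS_sound (paired_inv hx) hk (bound := c.d + c.e)
      (by simpa using hF) heq
    rw [beqW_eq h5, hgw, h0, act_eq_val, val_inv, smul_eq_mul, mul_one, inv_eq_one] at h6
    exact h6
  · simp at h4

theorem prodW_substW {im : List (List ℕ)} {k' : ℕ} (hk : k' + k' ≤ eps) : ∀ {w : List ℕ},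
    (∀ g ∈ w, g < k' + k') →
      prodW x (substW im w) = prodW (fun g => prodW x (im.getD g [])) w
  | [], _ => by simp [substW]
  | g :: w, h => by
    have hg := h g (by simp)
    have ih := prodW_substW (im := im) hk (w := w) fun a ha => h a (by simp [ha])
    rw [substW] at ih ⊢
    rw [List.map_cons, List.flatten_cons, prodW_append, ih, prodW_cons]
    congr 1
    rw [gen, if_neg (by omega)]

/-- The hypotheses of a setting. -/
structure Env (P : Spec) (x : ℕ → G) : Prop where
  bound : P.k + P.k ≤ eps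
  paired : Paired P.k x
  ord : ∀ g : G, g ^ 1 = 1 ∨ g ^ 2 = 1 ∨ g ^ 3 = 1 ∨ g ^ 4 = 1 ∨ g ^ 5 = 1 ∨ g ^ 6 = 1
  pure : ∀ a ∈ P.pure, ∀ c s : G, s * s = 1 →
    (c * x a * c⁻¹ * s) ^ 4 = 1 ∨ (c * x a * c⁻¹ * s) ^ 5 = 1
  invol : ∀ z y, P.zy = some (z, y) →
    ∀ h : G, h * x y = x y * h → h * h = 1 → (x z * h) ^ 2 = 1
  conj : ∀ z y, P.zy = some (z, y) →
    ∀ h : G, h * x y = x y * h → (x z * (h * x z * h⁻¹)) ^ 2 = 1
  four : ∀ u ∈ P.three, ∀ v ∈ P.three, ∀ e : G, prodW x u * prodW x v = prodW x v * prodW x u →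
    prodW x u * e = e * prodW x u → e * e = 1 →
    (e * (prodW x v * e * (prodW x v)⁻¹)) ^ 2 = 1 → e * prodW x v = prodW x v * e

theorem prodW_comW (hx : Paired k x) (hk : k + k ≤ eps) {u v : List ℕ} (hu : ∀ g ∈ u, g < k + k)
    (hv : ∀ g ∈ v, g < k + k) :
    prodW x (comW k u v) = 1 ↔ prodW x u * prodW x v = prodW x v * prodW x u := by
  rw [comW, prodW_append, prodW_append, prodW_append, prodW_invW hx hk hu, prodW_invW hx hk hv,
    mul_inv_eq_one, mul_inv_eq_iff_eq_mul]

/-- A checked tree proves a target. -/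
theorem Tree.sound {P : Spec} (E : Env P x) : ∀ {t : Tree} {R : List (List ℕ)},
    t.ok P R = true → (∀ r ∈ R, prodW x r = 1) →
      ∃ T ∈ P.targets, ∀ w ∈ T, prodW x w = 1 := by
  intro t
  have add : ∀ {R : List (List ℕ)}, (∀ r ∈ R, prodW x r = 1) → ∀ {w : List ℕ}, prodW x w = 1 →
      ∀ r ∈ R ++ [w], prodW x r = 1 := fun hR w hw r hr => by
    rcases List.mem_append.1 hr with hr | hr
    · exact hR r hr
    · rw [List.mem_singleton.1 hr, hw]
  have hg : ∀ g, g < P.k + P.k → gen x g = x g := fun g hg =>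
    if_neg (by have := E.bound; omega)
  induction t with
  | goal c i =>
    intro R h hR
    simp only [Tree.ok, Bool.and_eq_true, Nat.blt_eq] at h
    rw [List.getD_eq_getElem _ _ h.1] at h
    exact ⟨_, List.getElem_mem _, Cert.eq_one h.2 E.paired E.bound hR⟩
  | split w t1 t2 t3 t4 t5 t6 ih1 ih2 ih3 ih4 ih5 ih6 =>
    intro R h hR
    simp only [Tree.ok, Bool.and_eq_true] at h
    obtain ⟨⟨⟨⟨⟨⟨-, h1⟩, h2⟩, h3⟩, h4⟩, h5⟩, h6⟩ := h
    rcases E.ord (prodW x w) with e | e | e | e | e | e <;> rw [← prodW_powW] at e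
    exacts [ih1 h1 (add hR e), ih2 h2 (add hR e), ih3 h3 (add hR e), ih4 h4 (add hR e),
      ih5 h5 (add hR e), ih6 h6 (add hR e)]
  | sub k' im R' T' c c' t ih =>
    intro R h hR
    simp only [Tree.ok, Bool.and_eq_true, Nat.ble_eq, Nat.beq_eq] at h
    obtain ⟨⟨⟨⟨⟨⟨hk, -⟩, -⟩, hlT⟩, hc⟩, hc'⟩, ht⟩ := h
    have hcc := Cert.eq_one hc E.paired E.bound hR
    have hl' : lettersOK k' R' = true := by
      simp only [Cert.ok, Bool.and_eq_true] at hc'
      exact hc'.1.1.1.1.1
    have hp : Paired k' fun g => prodW x (im.getD g []) := fun g hg => by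
      have := hcc (substW im [g, g + k']) (List.mem_append_right _
        (List.mem_map.2 ⟨g, List.mem_range.2 hg, rfl⟩))
      rw [prodW_substW hk (by simp; omega), prodW_cons, prodW_singleton, gen, gen,
        if_neg (by omega), if_neg (by omega)] at this
      exact this
    have hT := Cert.eq_one hc' hp hk fun r hr => by
      rw [← prodW_substW hk (lettersOK_iff hl' r hr)]
      exact hcc _ (List.mem_append_left _ (List.mem_map_of_mem hr))
    refine ih ht fun r hr => ?_
    rcases List.mem_append.1 hr with hr | hr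
    · exact hR r hr
    · obtain ⟨w, hw, rfl⟩ := List.mem_map.1 hr
      rw [prodW_substW hk (lettersOK_iff hlT w hw)]
      exact hT w hw
  | derive ws c t ih =>
    intro R h hR
    simp only [Tree.ok, Bool.and_eq_true] at h
    refine ih h.2 fun r hr => ?_
    rcases List.mem_append.1 hr with hr | hr
    · exact hR r hr
    · exact Cert.eq_one h.1 E.paired E.bound hR r hr
  | pair m g q c t4 t5 ih4 ih5 =>
    intro R h hR
    simp only [Tree.ok, Bool.and_eq_true, List.any_eq_true, Nat.beq_eq] at h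
    obtain ⟨⟨⟨⟨hl, a, ha, rfl⟩, hc⟩, h4⟩, h5⟩ := h
    have hq := Cert.eq_one hc E.paired E.bound hR _ (List.mem_singleton_self _)
    rw [prodW_powW, pow_two] at hq
    have hl' := lettersOK_iff hl
    have hp := E.pure a ha (prodW x m) (prodW x q) hq
    rw [show prodW x m * x a * (prodW x m)⁻¹ * prodW x q = prodW x (m ++ a :: invW P.k m ++ q) by
      rw [prodW_append, prodW_append, prodW_cons,
        prodW_invW E.paired E.bound (hl' m (by simp)), hg a (hl' [a] (by simp) a (by simp))]
      group] at hp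
    simp only [← prodW_powW] at hp
    rcases hp with e | e
    exacts [ih4 h4 (add hR e), ih5 h5 (add hR e)]
  | invol h c t ih =>
    intro R hok hR
    rw [Tree.ok] at hok
    cases hzy : P.zy with
    | none => rw [hzy] at hok; simp at hok
    | some zy =>
      obtain ⟨z, y⟩ := zy
      rw [hzy] at hok
      simp only [Bool.and_eq_true] at hok
      obtain ⟨⟨hl, hc⟩, ht⟩ := hok
      have hl' := lettersOK_iff hl
      have hz := hl' [z] (by simp) z (by simp)
      have hy := hl' [y] (by simp) y (by simp)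
      have hh := Cert.eq_one hc E.paired E.bound hR
      have h2 := hh (powW 2 h) (by simp)
      have hcm := hh (comW P.k h [y]) (by simp)
      rw [prodW_powW, pow_two] at h2
      rw [prodW_comW E.paired E.bound (hl' h (by simp)) (hl' [y] (by simp)), prodW_singleton,
        hg y hy] at hcm
      refine ih ht (add hR ?_)
      rw [prodW_powW, prodW_cons, hg z hz]
      exact E.invol z y hzy _ hcm h2
  | conj h c t ih =>
    intro R hok hR
    rw [Tree.ok] at hok
    cases hzy : P.zy with
    | none => rw [hzy] at hok; simp at hok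
    | some zy =>
      obtain ⟨z, y⟩ := zy
      rw [hzy] at hok
      simp only [Bool.and_eq_true] at hok
      obtain ⟨⟨hl, hc⟩, ht⟩ := hok
      have hl' := lettersOK_iff hl
      have hz := hl' [z] (by simp) z (by simp)
      have hy := hl' [y] (by simp) y (by simp)
      have hh := Cert.eq_one hc E.paired E.bound hR
      have hcm := hh (comW P.k h [y]) (by simp)
      rw [prodW_comW E.paired E.bound (hl' h (by simp)) (hl' [y] (by simp)), prodW_singleton,
        hg y hy] at hcm
      refine ih ht (add hR ?_)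
      rw [prodW_powW, prodW_cons, prodW_append, prodW_cons,
        prodW_invW E.paired E.bound (hl' h (by simp)), hg z hz, ← mul_assoc (prodW x h)]
      exact E.conj z y hzy _ hcm
  | four u v e c t ih =>
    intro R hok hR
    simp only [Tree.ok, Bool.and_eq_true] at hok
    obtain ⟨⟨⟨⟨hl, hu⟩, hv⟩, hc⟩, ht⟩ := hok
    have hl' := lettersOK_iff hl
    have hh := Cert.eq_one hc E.paired E.bound hR
    have hcom := fun a b (ha : a ∈ [u, v, e]) (hb : b ∈ [u, v, e]) =>
      prodW_comW (x := x) E.paired E.bound (hl' a ha) (hl' b hb)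
    have h1 := (hcom u v (by simp) (by simp)).1 (hh _ (by simp))
    have h2 := (hcom u e (by simp) (by simp)).1 (hh _ (by simp))
    have h3 := hh (powW 2 e) (by simp)
    have h4 := hh (powW 2 (e ++ (v ++ e ++ invW P.k v))) (by simp)
    rw [prodW_powW, pow_two] at h3
    rw [prodW_powW, prodW_append, prodW_append, prodW_append,
      prodW_invW E.paired E.bound (hl' v (by simp))] at h4
    exact ih ht (add hR ((hcom e v (by simp) (by simp)).2
      (E.four u (hasW_iff hu) v (hasW_iff hv) _ h1 h2 h3 h4)))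

end Cfsg.Lib.Recog.OrderSix.Trees
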